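-- Team project LSF (S5286, owner helper67): package [TREE] (helper52): a finite subgroup of
-- `FreeGroup X ⋊ Q` fixes a vertex of every invariant convex set of vertices of the Cayley tree.
import Mathlib
import Cfsg.Agent.Lib.Helper67.LSF.Defs

set_option autoImplicit false

namespace Cfsg.Agent.Lib.Helper52.LSF
open Cfsg.Agent.Lib.Helper67.LSF

universe u

theorem tree_norm_map_le {α β : Type u} [DecidableEq α] [DecidableEq β] (f : α → β)
    (x : FreeGroup α) : (FreeGroup.map f x).norm ≤ x.norm := by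
  have h : FreeGroup.map f x = FreeGroup.mk (x.toWord.map fun y => (f y.1, y.2)) := by
    conv_lhs => rw [← FreeGroup.mk_toWord (x := x)]
    rfl
  rw [h]
  refine FreeGroup.norm_mk_le.trans ?_
  simp [FreeGroup.norm]

theorem tree_norm_congr {α : Type u} [DecidableEq α] (e : Equiv.Perm α) (x : FreeGroup α) :
    (FreeGroup.freeGroupCongr e x).norm = x.norm := by
  apply le_antisymm
  · exact tree_norm_map_le e x
  · have h := tree_norm_map_le e.symm (FreeGroup.freeGroupCongr e x)
    have h2 : FreeGroup.map e.symm (FreeGroup.freeGroupCongr e x) = x :=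
      (FreeGroup.freeGroupCongr e).symm_apply_apply x
    rw [h2] at h
    exact h

/-- [TREE] (from [VSHAPE]). -/
theorem pkgTree (hVS : PkgVShape.{u}) : PkgTree.{u} := by
  classical
  intro Q _ X α H _ V h1 hinv hconv
  have hnormaut : ∀ (q : Q) (w : FreeGroup X), (autX α q w).norm = w.norm :=
    fun q w => tree_norm_congr (α q) w
  have hiso : ∀ (a : FreeGroup X) (q : Q) (u v : FreeGroup X),
      ((a * autX α q u)⁻¹ * (a * autX α q v)).norm = (u⁻¹ * v).norm := by
    intro a q u v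
    have h : (a * autX α q u)⁻¹ * (a * autX α q v) = autX α q (u⁻¹ * v) := by
      rw [map_mul, map_inv]
      group
    rw [h, hnormaut]
  let _ : Fintype H := Fintype.ofFinite H
  let R : FreeGroup X → ℕ := fun v => Finset.univ.sup (fun k : H => (v⁻¹ * k.1.left).norm)
  have hRle : ∀ (v : FreeGroup X) (k : H), (v⁻¹ * k.1.left).norm ≤ R v := fun v k =>
    Finset.le_sup (f := fun k : H => (v⁻¹ * k.1.left).norm) (Finset.mem_univ k)
  have hRinv : ∀ h ∈ H, ∀ v, R (h.left * autX α h.right v) ≤ R v := by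
    intro h hh v
    apply Finset.sup_le
    intro k _
    have hk : k.1.left = h.left * autX α h.right (h⁻¹ * k.1).left := by
      have h0 : k.1 = h * (h⁻¹ * k.1) := by group
      conv_lhs => rw [h0]
      rw [SemidirectProduct.mul_left]
    rw [hk, hiso]
    exact hRle v ⟨h⁻¹ * k.1, H.mul_mem (H.inv_mem hh) k.2⟩
  obtain ⟨v₀, hv₀, hmin⟩ : ∃ v ∈ V, ∀ w ∈ V, R v ≤ R w := by
    have hex : ∃ n, ∃ v ∈ V, R v = n := ⟨R 1, 1, h1, rfl⟩
    obtain ⟨v, hv, hvn⟩ := Nat.find_spec hex
    refine ⟨v, hv, fun w hw => ?_⟩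
    rw [hvn]
    exact Nat.find_min' hex ⟨w, hw, rfl⟩
  have hD : ∀ w ∈ V, R w ≤ R v₀ → (v₀⁻¹ * w).norm ≤ 1 := by
    intro w hw hRw
    by_contra hlt
    have hlt' : 2 ≤ (v₀⁻¹ * w).toWord.length := by
      have : ¬ (v₀⁻¹ * w).toWord.length ≤ 1 := hlt
      omega
    obtain ⟨L, hL⟩ : ∃ L, L = (v₀⁻¹ * w).toWord := ⟨_, rfl⟩
    rw [← hL] at hlt'
    have hLred : FreeGroup.IsReduced (L.take 1 ++ L.drop 1) := by
      rw [List.take_append_drop, hL]
      exact FreeGroup.isReduced_toWord
    have hL1 : L.take 1 ≠ [] := by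
      intro h0
      rcases List.take_eq_nil_iff.mp h0 with h00 | h00
      · exact absurd h00 one_ne_zero
      · rw [h00] at hlt'
        simp at hlt'
    have hL2 : L.drop 1 ≠ [] := by
      intro h0
      have h00 := List.drop_eq_nil_iff.mp h0
      omega
    have hmk : FreeGroup.mk (L.take 1 ++ L.drop 1) = v₀⁻¹ * w := by
      rw [List.take_append_drop, hL, FreeGroup.mk_toWord]
    have hmidV : v₀ * FreeGroup.mk (L.take 1) ∈ V := by
      apply hconv v₀ hv₀ _ _ hLred
      rw [hmk, mul_inv_cancel_left]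
      exact hw
    have hlt2 : R (v₀ * FreeGroup.mk (L.take 1)) < R v₀ := by
      obtain ⟨k, _, hk⟩ := Finset.exists_mem_eq_sup (Finset.univ : Finset H)
        ⟨⟨1, H.one_mem⟩, Finset.mem_univ _⟩
        (fun k : H => ((v₀ * FreeGroup.mk (L.take 1))⁻¹ * k.1.left).norm)
      have hR : R (v₀ * FreeGroup.mk (L.take 1))
          = ((v₀ * FreeGroup.mk (L.take 1))⁻¹ * k.1.left).norm := hk
      rw [hR]
      have hvs := hVS (k.1.left⁻¹ * v₀) (L.take 1) (L.drop 1) hLred hL1 hL2
      have e1 : ((v₀ * FreeGroup.mk (L.take 1))⁻¹ * k.1.left).norm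
          = (k.1.left⁻¹ * v₀ * FreeGroup.mk (L.take 1)).norm := by
        rw [← FreeGroup.norm_inv_eq]
        congr 1
        group
      have e2 : (k.1.left⁻¹ * v₀).norm = (v₀⁻¹ * k.1.left).norm := by
        rw [← FreeGroup.norm_inv_eq]
        congr 1
        group
      have e3 : (k.1.left⁻¹ * v₀ * FreeGroup.mk (L.take 1 ++ L.drop 1)).norm
          = (w⁻¹ * k.1.left).norm := by
        rw [hmk, ← FreeGroup.norm_inv_eq]
        congr 1
        group
      rw [e1]
      rw [e2, e3] at hvs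
      have b1 := hRle v₀ k
      have b2 := hRle w k
      exact lt_of_lt_of_le hvs (max_le b1 (b2.trans hRw))
    exact absurd (hmin _ hmidV) (not_le.mpr hlt2)
  refine ⟨v₀, hv₀, ?_⟩
  intro h hh
  by_contra hne
  obtain ⟨v', hv'⟩ : ∃ v', v' = h.left * autX α h.right v₀ := ⟨_, rfl⟩
  have hv'V : v' ∈ V := by
    rw [hv']
    exact hinv h hh v₀ hv₀
  have hRv' : R v' ≤ R v₀ := by
    rw [hv']
    exact hRinv h hh v₀
  have hd1 := hD v' hv'V hRv'
  have hd0 : (v₀⁻¹ * v').norm ≠ 0 := by
    rw [Ne, FreeGroup.norm_eq_zero]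
    intro h0
    apply hne
    rw [← hv']
    exact (inv_mul_eq_one.mp h0).symm
  have hlen : (v₀⁻¹ * v').toWord.length = 1 := by
    have h1' : (v₀⁻¹ * v').norm = 1 := by omega
    exact h1'
  obtain ⟨l, hl⟩ := List.length_eq_one_iff.mp hlen
  have hv'eq : v' = v₀ * FreeGroup.mk [l] := by
    rw [← hl, FreeGroup.mk_toWord, mul_inv_cancel_left]
  have hwV : h.left * autX α h.right v' ∈ V := hinv h hh v' hv'V
  have hRw : R (h.left * autX α h.right v') ≤ R v₀ := (hRinv h hh v').trans hRv'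
  have hdw := hD _ hwV hRw
  have hweq : v₀⁻¹ * (h.left * autX α h.right v')
      = FreeGroup.mk [l, (α h.right l.1, l.2)] := by
    have e1 : autX α h.right (FreeGroup.mk [l]) = FreeGroup.mk [(α h.right l.1, l.2)] := by
      rw [autX_mk]
      rfl
    have e2 : h.left * autX α h.right v'
        = v₀ * FreeGroup.mk [l] * FreeGroup.mk [(α h.right l.1, l.2)] := by
      conv_lhs => rw [hv'eq, map_mul, e1, ← mul_assoc, ← hv', hv'eq]
    rw [e2, mul_assoc, inv_mul_cancel_left]
    rfl
  have hnorm2 : (FreeGroup.mk [l, (α h.right l.1, l.2)]).norm = 2 := by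
    have hred : FreeGroup.IsReduced [l, (α h.right l.1, l.2)] := by
      rw [FreeGroup.isReduced_cons_cons]
      exact ⟨fun _ => rfl, FreeGroup.IsReduced.singleton⟩
    rw [FreeGroup.norm, FreeGroup.toWord_mk, hred.reduce_eq]
    rfl
  rw [hweq, hnorm2] at hdw
  omega

end Cfsg.Agent.Lib.Helper52.LSF
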